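import Cfsg.Agent.H508.Dens.Main_m3
import Cfsg.Agent.GpExc.Over
import Cfsg.Agent.H868.KSL2
import Cfsg.Agent.KFacts.RgdRigid
import Cfsg.Agent.GpExc.Field
import Cfsg.Agent.GpExc.Rank
import Cfsg.Agent.Nodes.RGDFold
import Cfsg.Agent.S0276
import Cfsg.Agent.Lib.ListFast
import Cfsg.Agent.H107.NB.OrthTor_m3
import Cfsg.Agent.FastGrp
import Cfsg.Agent.Prune
set_option linter.all false

section
prune_inst 0x7f00000000000000000000000000000000000000000000000000000000000000000000000000000000000000000000000000000000000000000000000000000000000000000000000000000000000000003fffffffffffffffffffffffffffbeffbdffffffff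

-- part: H788/NB/Fold
section
set_option linter.all false
open scoped Cfsg.Agent.FastGrp

-- part: H788/NB/Norm
section
/-!
# Centralizers of elements of odd prime order in the long root `SL₂`, all characteristics (helper788)

The version of helper75's `GpExc/Tab` (`Cent.norm_of_comm`, `Wit.norm_zero`) without assumption on the characteristic.

* `SLTwo.exists_conj` : `g ∈ SL₂(K)` of odd prime order `p`, `K ∋` primitive `p`-th root of unity ⟹ `g` is conjugate to
  `diag (c, c⁻¹)`, `c ^ p = 1`, `c ≠ 1`;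
* `norm_of_comm` : `D` one of `G2, D4, F4, E6, E7, E8`, `θ` the highest root: an element commuting with
  `ph θ g` normalises `⟨X b : ⟨b, θ^∨⟩ = 0⟩`;
* `norm_zero` : the same for a group `H → D.group K` with a compatible root group datum.
-/

set_option autoImplicit false
set_option linter.unusedSectionVars false

namespace Cfsg.Agent.H788.NB

open CoxeterSystem Cfsg Cfsg.Lie Cfsg.Agent.ChevalleyStructure Cfsg.Agent.ChevalleyStructure.Elts
  Cfsg.Agent.ChevalleyStructure.CoxeterGeom Cfsg.Agent.Tits.Roots Cfsg.Agent.Tits.Core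
  Cfsg.Agent.Tits.RootComb Cfsg.Agent.Nodes.Comb Cfsg.Agent.Nodes.Coroot
open Cfsg.Agent.Nodes.Reps Cfsg.Agent.Nodes.BNOf Cfsg.Agent.Nodes.Bruhat Cfsg.Agent.KFacts.RgdPar
  Cfsg.Agent.Nodes Cfsg.Agent.Nodes.RGDChev Cfsg.Agent.KFacts.RgdChevCoord
open Cfsg.Agent.ChevalleyStructure.SL2Hom Cfsg.Agent.ChevalleyStructure.RootVec
open Cfsg.Agent.H92.ExcSL2 Cfsg.Agent.H818.StrP.UTab Cfsg.Agent.H818.StrP.UAct
open Cfsg.Agent.GpExc

universe u v

/-! ### `SL₂(K)` -/

namespace SLTwo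

open Matrix

variable {K : Type*} [Field K]

/-- `diag(c, c⁻¹)` -/
def dg (c : Kˣ) : _root_.Matrix.SpecialLinearGroup (Fin 2) K :=
  ⟨!![(c : K), 0; 0, ((c⁻¹ : Kˣ) : K)], by simp [Matrix.det_fin_two]⟩

theorem coe_dg (c : Kˣ) : ((dg c : _root_.Matrix.SpecialLinearGroup (Fin 2) K) : Matrix (Fin 2) (Fin 2) K) =
    !![(c : K), 0; 0, ((c⁻¹ : Kˣ) : K)] := rfl

theorem dg_eq {K : Type u} [Field K] (c : Kˣ) : dg c = wel (c : K) c.ne_zero * wel (-1) (by simp) := by
  apply Subtype.ext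
  show !![(c : K), 0; 0, ((c⁻¹ : Kˣ) : K)] = !![0, (c : K); -(c : K)⁻¹, 0] * !![0, (-1 : K); -(-1 : K)⁻¹, 0]
  ext i j
  (revert i j; simp [Units.val_inv_eq_inv_val, _root_.Fin.forall_fin_succ])

theorem exists_root {n : Type*} [Fintype n] [DecidableEq n] [Nonempty n] {p : ℕ} (hp : 0 < p) {ζ : K}
    (hζ : IsPrimitiveRoot ζ p) {g : Matrix n n K} (hg : g ^ p = 1) : ∃ c : K, c ^ p = 1 ∧ (g - c • 1).det = 0 := by
  let φ : Polynomial K →* K := (Matrix.detMonoidHom (n := n) (R := K)).comp (Polynomial.aeval g).toRingHom.toMonoidHom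
  have h1 : φ (Polynomial.X ^ p - 1) = 0 := by
    show ((Polynomial.aeval g) (Polynomial.X ^ p - 1 : Polynomial K)).det = 0
    rw [map_sub, map_pow, Polynomial.aeval_X, map_one, hg, sub_self]
    exact Matrix.det_zero
  rw [Polynomial.X_pow_sub_one_eq_prod hp hζ, map_prod, Finset.prod_eq_zero_iff] at h1
  obtain ⟨c, hc, h2⟩ := h1
  refine ⟨c, (Polynomial.mem_nthRootsFinset hp _).1 hc, ?_⟩
  have h3 : ((Polynomial.aeval g) (Polynomial.X - Polynomial.C c : Polynomial K)).det = 0 := h2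
  rw [map_sub, Polynomial.aeval_X, Polynomial.aeval_C, Algebra.algebraMap_eq_smul_one] at h3
  exact h3

/-- a matrix of determinant one with given first column -/
theorem exists_col {v : Fin 2 → K} (hv : v ≠ 0) :
    ∃ k : _root_.Matrix.SpecialLinearGroup (Fin 2) K, ∀ i, (k : Matrix (Fin 2) (Fin 2) K) i 0 = v i := by
  by_cases h0 : v 0 = 0
  · have h1 : v 1 ≠ 0 := by
      intro h1
      apply hv
      funext i
      fin_cases i
      · exact h0
      · exact h1
    refine ⟨⟨!![v 0, -(v 1)⁻¹; v 1, 0], by simp [Matrix.det_fin_two, h1]⟩, fun i => ?_⟩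
    (revert i; simp only [_root_.Fin.forall_fin_succ, Fin.isValue, _root_.Matrix.of_apply, _root_.Matrix.cons_val', _root_.Matrix.cons_val_zero, _root_.Matrix.cons_val_fin_one, _root_.Matrix.cons_val_succ, _root_.Fin.succ_zero_eq_one, _root_.IsEmpty.forall_iff, _root_.and_self])
  · refine ⟨⟨!![v 0, 0; v 1, (v 0)⁻¹], by simp [Matrix.det_fin_two, h0]⟩, fun i => ?_⟩
    fin_cases i <;> simp

theorem pow_upper (s : K) (n : ℕ) : (!![(1 : K), s; 0, 1]) ^ n = !![(1 : K), n * s; 0, 1] := by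
  induction n with
  | zero =>
    rw [pow_zero]
    ext i j
    (revert i j; simp only [_root_.Fin.forall_fin_succ, _root_.Nat.cast_zero, _root_.MulZeroClass.zero_mul, _root_.Matrix.of_apply, _root_.Matrix.cons_val', _root_.Matrix.cons_val_fin_one, Fin.isValue, _root_.Matrix.cons_val_zero, _root_.Matrix.cons_val_succ, _root_.IsEmpty.forall_iff, _root_.and_true, _root_.Matrix.one_apply_eq, Nat.reduceAdd, _root_.Fin.succ_zero_eq_one, _root_.ne_eq, _root_.zero_ne_one, _root_.not_false_eq_true, _root_.Matrix.one_apply_ne, _root_.and_self, _root_.Fin.succ_ne_zero, _root_.true_and])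
  | succ n ih =>
    rw [pow_succ, ih]
    ext i j
    (revert i j; simp only [Matrix.mul_apply, Fin.sum_univ_two, _root_.Fin.forall_fin_succ, _root_.Matrix.of_apply, _root_.Matrix.cons_val', _root_.Matrix.cons_val_fin_one, Fin.isValue, _root_.Matrix.cons_val_zero, _root_.Matrix.cons_val_one, _root_.Nat.cast_add, _root_.Nat.cast_one, _root_.mul_one, _root_.MulZeroClass.mul_zero, _root_.add_zero, _root_.Matrix.cons_val_succ, _root_.forall_const, _root_.one_mul, _root_.MulZeroClass.zero_mul, _root_.zero_add, _root_.implies_true, _root_.and_true, _root_.true_and]) <;> (repeat' with_reducible apply And.intro)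
    ring

theorem natCast_ne_zero {p : ℕ} (hp : p.Prime) {ζ : K} (hζ : IsPrimitiveRoot ζ p) : (p : K) ≠ 0 := by
  intro h0
  obtain ⟨r, hr⟩ := CharP.exists K
  have h1 : r ∣ p := (CharP.cast_eq_zero_iff K r p).1 h0
  rcases (Nat.dvd_prime hp).1 h1 with rfl | rfl
  · exact absurd rfl (CharP.char_ne_one K 1)
  · have : Fact r.Prime := ⟨hp⟩
    have h2 : (ζ - 1) ^ r = 0 := by
      rw [sub_pow_char, hζ.pow_eq_one, one_pow, sub_self]
    have h3 : ζ = 1 := sub_eq_zero.1 (pow_eq_zero_iff hp.ne_zero |>.1 h2)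
    exact hζ.ne_one hp.one_lt h3

/-- **Elements of odd prime order are diagonalizable.** -/
theorem exists_conj {p : ℕ} (hp : p.Prime) (hp2 : p ≠ 2) {ζ : K} (hζ : IsPrimitiveRoot ζ p)
    {g : _root_.Matrix.SpecialLinearGroup (Fin 2) K} (hg : g ^ p = 1) (hg1 : g ≠ 1) :
    ∃ (k : _root_.Matrix.SpecialLinearGroup (Fin 2) K) (c : Kˣ), c ^ p = 1 ∧ c ≠ 1 ∧ k * g * k⁻¹ = dg c := by
  have hodd : Odd p := hp.odd_of_ne_two hp2
  have hpK := natCast_ne_zero hp hζ
  have hgm : (g : Matrix (Fin 2) (Fin 2) K) ^ p = 1 := by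
    rw [← Matrix.SpecialLinearGroup.coe_pow, hg, Matrix.SpecialLinearGroup.coe_one]
  obtain ⟨c, hc, hdet⟩ := exists_root hp.pos hζ hgm
  have hc0 : c ≠ 0 := by
    rintro rfl
    rw [zero_pow hp.ne_zero] at hc
    exact zero_ne_one hc
  obtain ⟨v, hv, hgv⟩ := Matrix.exists_mulVec_eq_zero_iff.2 hdet
  have hgv' : (g : Matrix (Fin 2) (Fin 2) K) *ᵥ v = c • v := by
    rw [Matrix.sub_mulVec, Matrix.smul_mulVec, Matrix.one_mulVec, sub_eq_zero] at hgv
    exact hgv
  obtain ⟨k, hk⟩ := exists_col hv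
  -- `k⁻¹ g k` is upper triangular
  set m := k⁻¹ * g * k with hm
  have hkm : k * m = g * k := by rw [hm]; group
  have hcol : ∀ i, (k : Matrix (Fin 2) (Fin 2) K) i 0 * (m : Matrix (Fin 2) (Fin 2) K) 0 0 +
      (k : Matrix (Fin 2) (Fin 2) K) i 1 * (m : Matrix (Fin 2) (Fin 2) K) 1 0 = c * v i := by
    intro i
    have h3 := congrFun (congrFun (congrArg (fun z : _root_.Matrix.SpecialLinearGroup (Fin 2) K => (z : Matrix (Fin 2) (Fin 2) K)) hkm)
      i) 0
    simp only [Matrix.SpecialLinearGroup.coe_mul, Matrix.mul_apply, Fin.sum_univ_two] at h3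
    rw [h3, hk 0, hk 1]
    have h4 := congrFun hgv' i
    rw [Matrix.mulVec, dotProduct, Fin.sum_univ_two] at h4
    simpa only [_root_.Fin.isValue, _root_.Pi.smul_apply, _root_.smul_eq_mul] using h4
  have hdk : (k : Matrix (Fin 2) (Fin 2) K) 0 0 * (k : Matrix (Fin 2) (Fin 2) K) 1 1 -
      (k : Matrix (Fin 2) (Fin 2) K) 0 1 * (k : Matrix (Fin 2) (Fin 2) K) 1 0 = 1 := by
    rw [← Matrix.det_fin_two]; exact k.2
  have e0 := hcol 0
  have e1 := hcol 1
  rw [← hk 0] at e0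
  rw [← hk 1] at e1
  set k00 := (k : Matrix (Fin 2) (Fin 2) K) 0 0
  set k01 := (k : Matrix (Fin 2) (Fin 2) K) 0 1
  set k10 := (k : Matrix (Fin 2) (Fin 2) K) 1 0
  set k11 := (k : Matrix (Fin 2) (Fin 2) K) 1 1
  have m10 : (m : Matrix (Fin 2) (Fin 2) K) 1 0 = 0 := by
    linear_combination k00 * e1 - k10 * e0 - (m : Matrix (Fin 2) (Fin 2) K) 1 0 * hdk
  have m00 : (m : Matrix (Fin 2) (Fin 2) K) 0 0 = c := by
    linear_combination k11 * e0 - k01 * e1 - ((m : Matrix (Fin 2) (Fin 2) K) 0 0 - c) * hdk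
  have hdm : (m : Matrix (Fin 2) (Fin 2) K) 0 0 * (m : Matrix (Fin 2) (Fin 2) K) 1 1 -
      (m : Matrix (Fin 2) (Fin 2) K) 0 1 * (m : Matrix (Fin 2) (Fin 2) K) 1 0 = 1 := by
    rw [← Matrix.det_fin_two]; exact m.2
  have m11 : (m : Matrix (Fin 2) (Fin 2) K) 1 1 = c⁻¹ := by
    rw [m10, m00, mul_zero, sub_zero] at hdm
    exact eq_inv_of_mul_eq_one_right hdm
  set s := (m : Matrix (Fin 2) (Fin 2) K) 0 1 with hs
  have hmat : (m : Matrix (Fin 2) (Fin 2) K) = !![c, s; 0, c⁻¹] := by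
    ext i j
    fin_cases i <;> fin_cases j
    · exact m00
    · rfl
    · exact m10
    · exact m11
  have hmp : m ^ p = 1 := by
    have h3 : m = k⁻¹ * g * k⁻¹⁻¹ := by rw [hm, inv_inv]
    rw [h3, conj_pow, hg, mul_one, mul_inv_cancel]
  have hc2 : c ^ 2 = 1 → c = 1 := by
    intro h3
    obtain ⟨j, hj⟩ := hodd
    rw [hj, pow_succ, pow_mul, h3, one_pow, one_mul] at hc
    exact hc
  have hc1 : c ≠ 1 := by
    intro h3
    have h4 : !![(1 : K), s; 0, 1] ^ p = 1 := by
      have h5 := congrArg (fun z : _root_.Matrix.SpecialLinearGroup (Fin 2) K => (z : Matrix (Fin 2) (Fin 2) K)) hmp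
      simp only [Matrix.SpecialLinearGroup.coe_pow, Matrix.SpecialLinearGroup.coe_one, hmat, h3, inv_one] at h5
      exact h5
    rw [pow_upper] at h4
    have h5 := congrFun (congrFun h4 0) 1
    have h6 : (p : K) * s = 0 := by simpa only [_root_.mul_eq_zero, _root_.Fin.isValue, _root_.Matrix.of_apply, _root_.Matrix.cons_val', _root_.Matrix.cons_val_one, _root_.Matrix.cons_val_fin_one, _root_.Matrix.cons_val_zero, _root_.ne_eq, _root_.zero_ne_one, _root_.not_false_eq_true, _root_.Matrix.one_apply_ne] using h5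
    have h7 : s = 0 := (mul_eq_zero.1 h6).resolve_left hpK
    have h8 : m = 1 := by
      apply Subtype.ext
      show (m : Matrix (Fin 2) (Fin 2) K) = 1
      rw [hmat, h7, h3]
      ext i j
      (revert i j; simp only [_root_.Fin.forall_fin_succ, _root_.inv_one, _root_.Matrix.of_apply, _root_.Matrix.cons_val', _root_.Matrix.cons_val_fin_one, Fin.isValue, _root_.Matrix.cons_val_zero, _root_.Matrix.cons_val_succ, _root_.IsEmpty.forall_iff, _root_.and_true, _root_.Matrix.one_apply_eq, Nat.reduceAdd, _root_.Fin.succ_zero_eq_one, _root_.ne_eq, _root_.zero_ne_one, _root_.not_false_eq_true, _root_.Matrix.one_apply_ne, _root_.and_self, _root_.Fin.succ_ne_zero, _root_.true_and])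
    apply hg1
    have h9 : g = k * m * k⁻¹ := by rw [hm]; group
    rw [h9, h8]; group
  have hcc : c⁻¹ - c ≠ 0 := by
    intro h3
    apply hc1
    apply hc2
    rw [sub_eq_zero] at h3
    rw [pow_two]
    nth_rewrite 1 [← h3]
    exact inv_mul_cancel₀ hc0
  set t : K := -s / (c⁻¹ - c) with ht
  refine ⟨up t * k⁻¹, Units.mk0 c hc0, ?_, ?_, ?_⟩
  · apply Units.ext
    rw [Units.val_pow_eq_pow_val, Units.val_mk0, hc, Units.val_one]
  · intro h3
    exact hc1 (by rw [← Units.val_mk0 hc0, h3, Units.val_one])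
  have h3 : up t * k⁻¹ * g * (up t * k⁻¹)⁻¹ = up t * m * (up t)⁻¹ := by rw [hm]; group
  rw [h3, mul_inv_eq_iff_eq_mul]
  clear_value m
  apply Subtype.ext
  have h4 : t * (c⁻¹ - c) = -s := by rw [ht]; exact div_mul_cancel₀ _ hcc
  have h5 : ((up t * m : _root_.Matrix.SpecialLinearGroup (Fin 2) K) : Matrix (Fin 2) (Fin 2) K) =
      !![(1 : K), t; 0, 1] * !![c, s; 0, c⁻¹] := by
    rw [Matrix.SpecialLinearGroup.coe_mul, hmat]; rfl
  have h6 : ((dg (Units.mk0 c hc0) * up t : _root_.Matrix.SpecialLinearGroup (Fin 2) K) : Matrix (Fin 2) (Fin 2) K) =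
      !![c, 0; 0, c⁻¹] * !![1, t; 0, 1] := by
    rw [Matrix.SpecialLinearGroup.coe_mul, coe_dg]; rfl
  refine h5.trans (Eq.trans ?_ h6.symm)
  ext i j
  fin_cases i <;> fin_cases j
  · simp [Matrix.mul_apply, Fin.sum_univ_two]
  · simp only [Matrix.mul_apply, Fin.sum_univ_two]
    simp only [_root_.Fin.zero_eta, _root_.Fin.isValue, _root_.Matrix.of_apply, _root_.Matrix.cons_val', _root_.Matrix.cons_val_zero, _root_.Matrix.cons_val_fin_one, _root_.Fin.mk_one, _root_.Matrix.cons_val_one, _root_.one_mul, _root_.mul_one, _root_.add_zero]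
    linear_combination h4
  · simp [Matrix.mul_apply, Fin.sum_univ_two]
  · simp [Matrix.mul_apply, Fin.sum_univ_two]

end SLTwo

/-! ### normal form -/

section Norm

variable {I W Y : Type*} [Fintype I] [DecidableEq I] [Group W] [Group Y] {M : CoxeterMatrix I}
variable {cs : CoxeterSystem M W} {A : I → I → ℤ} {h : IsCartan M A}
  {p : ℕ} {T : Subgroup Y} {n : I → Y} {X : (I → ℤ) → Subgroup Y}

/-- **`C(S)` normalises the subgroup generated by the root groups centralised by `S ⊆ T`.** -/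
theorem conj_mem_sup [Finite W] (R : RGD cs h p T n X) {S : Set Y} (hS : S ⊆ T) {Ω : Set (I → ℤ)}
    (hΩ : ∀ x ∈ Ω, IsRoot cs h x) (h1 : ∀ x ∈ Ω, X x ≤ Subgroup.centralizer S)
    (h2 : ∀ x, IsRoot cs h x → x ∉ Ω → X x ⊓ Subgroup.centralizer S = ⊥)
    {g : Y} (hg : g ∈ GG cs h T X) (hc : g ∈ Subgroup.centralizer S) :
    ∀ u ∈ RGD.Sup X Ω, g * u * g⁻¹ ∈ RGD.Sup X Ω := by
  set L := RGD.Sup X Ω with hL
  have hle : RGD.Sup (fun x => X x ⊓ Subgroup.centralizer S) (RGD.Pos cs h) ≤ L := by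
    refine RGD.Sup_le fun x hx => ?_
    by_cases hx' : x ∈ Ω
    · exact le_trans inf_le_left (RGD.le_Sup hx')
    · rw [h2 x hx.1 hx']
      exact bot_le
  obtain ⟨u, hu, w, k, hk, hkc, v, hv, rfl⟩ := NormalForm.mem_centralizer R hS hg hc
  have hkL : ∀ y ∈ L, k * y * k⁻¹ ∈ L := by
    suffices h3 : L ≤ L.comap (MulAut.conj k).toMonoidHom from fun y hy => h3 hy
    refine RGD.Sup_le fun x hx y hy => ?_
    change k * y * k⁻¹ ∈ L
    by_cases hy1 : y = 1
    · rw [hy1, mul_one, mul_inv_cancel]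
      exact one_mem _
    have h4 := R.conj_mem hk (hΩ x hx) hy
    have h5 : rep cs h w x ∈ Ω := by
      by_contra hcon
      have h6 : k * y * k⁻¹ ∈ X (rep cs h w x) ⊓ Subgroup.centralizer S :=
        Subgroup.mem_inf.2 ⟨h4, mul_mem (mul_mem hkc (h1 x hx hy)) (inv_mem hkc)⟩
      rw [h2 _ ((hΩ x hx).act w) hcon, Subgroup.mem_bot] at h6
      apply hy1
      have h7 : y = k⁻¹ * (k * y * k⁻¹) * k := by group
      rw [h7, h6]; group
    exact RGD.le_Sup h5 h4
  have huL := hle hu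
  have hvL := hle hv
  intro y hy
  have h8 : u * k * v * y * (u * k * v)⁻¹ = u * (k * (v * y * v⁻¹) * k⁻¹) * u⁻¹ := by group
  rw [h8]
  exact mul_mem (mul_mem huL (hkL _ (mul_mem (mul_mem hvL hy) (inv_mem hvL)))) (inv_mem huL)

end Norm

/-! ### the highest root -/

/-- the roots of grade `0` are orthogonal to the highest root -/
def orthChk (D : ChevalleyDatum) : Bool :=
  (List.range D.nroots).all fun s => decide (_root_.Cfsg.Agent.ChevalleyStructure.RootVec.rt D s (node D) ≠ 0) || (OrthB D (top D) s && OrthB D 0 s)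

theorem orth_G2 : orthChk chevG2 = true := by decide +kernel
theorem orth_D4 : orthChk chevD4 = true := by decide +kernel
theorem orth_F4 : orthChk chevF4 = true := by decide +kernel
private noncomputable def _root_.Cfsg.Agent.LsF.f0da5a7_0 : {f // @Cfsg.Agent.ChevalleyStructure.RootVecTab.dig = f} := ⟨_, by first | (delta Cfsg.Agent.ChevalleyStructure.RootVecTab.dig; rewrite [Cfsg.Agent.LsF.nmul_pat]; exact rfl) | exact rfl⟩
private noncomputable def _root_.Cfsg.Agent.LsF.f0da5a7_1 : {f // @Cfsg.Agent.ChevalleyStructure.RootVecTab.packTab = f} := ⟨_, by first | (delta Cfsg.Agent.ChevalleyStructure.RootVecTab.packTab; rewrite [Cfsg.Agent.LsF.instDecEq_eq, Cfsg.Agent.LsF.ite_eq]; exact rfl) | exact rfl⟩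
private noncomputable def _root_.Cfsg.Agent.LsF.f0da5a7_2 : {f // @Cfsg.Agent.ChevalleyStructure.RootVecTab.code = f} := ⟨_, by first | (delta Cfsg.Agent.ChevalleyStructure.RootVecTab.code; rewrite [Cfsg.Agent.LsF.f0da5a7_1.2, Cfsg.Agent.LsF.nmul_pat, Cfsg.Agent.LsF.npow_pat]; exact rfl) | exact rfl⟩
private noncomputable def _root_.Cfsg.Agent.LsF.f0da5a7_3 : {f // @Cfsg.Agent.ChevalleyStructure.RootVec.rt = f} := ⟨_, by first | (delta Cfsg.Agent.ChevalleyStructure.RootVec.rt; rewrite [Cfsg.Agent.LsF.f0da5a7_0.2, Cfsg.Agent.LsF.f0da5a7_2.2, Cfsg.Agent.LsF.nsub_pat, Cfsg.Agent.LsF.isub_pat, Cfsg.Agent.LsF.icast_pat, Cfsg.Agent.LsF.decLt_eq, Cfsg.Agent.LsF.dAnd_eq, Cfsg.Agent.LsF.ite_eq]; exact rfl) | exact rfl⟩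
private noncomputable def _root_.Cfsg.Agent.LsF.f0da5a7_4 : {f // @Cfsg.Agent.H818.StrP.UTab.node = f} := ⟨_, by first | (delta Cfsg.Agent.H818.StrP.UTab.node; rewrite [Cfsg.Agent.LsF.instDecEq_eq, Cfsg.Agent.LsF.ite_eq]; exact rfl) | exact rfl⟩
private noncomputable def _root_.Cfsg.Agent.LsF.f0da5a7_5 : {f // @Cfsg.Lie.ChevalleyDatum.neg = f} := ⟨_, by first | (delta Cfsg.Lie.ChevalleyDatum.neg; rewrite [Cfsg.Agent.LsF.agetD_eq]; exact rfl) | exact rfl⟩
private noncomputable def _root_.Cfsg.Agent.LsF.f0da5a7_6 : {f // @Cfsg.Lie.ChevalleyDatum.chainEntry = f} := ⟨_, by first | (delta Cfsg.Lie.ChevalleyDatum.chainEntry; rewrite [Cfsg.Agent.LsF.instDecEq_eq, Cfsg.Agent.LsF.find?_eq, Cfsg.Agent.LsF.agetD_eq, Cfsg.Agent.LsF.decide_eq]; (try delta Cfsg.Lie.ChevalleyDatum.chainEntry.match_1); (try delta Option.casesOn); exact rfl) | exact rfl⟩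
private noncomputable def _root_.Cfsg.Agent.LsF.f0da5a7_7 : {f // @Cfsg.Lie.ChevalleyDatum.chainRoot = f} := ⟨_, by first | (delta Cfsg.Lie.ChevalleyDatum.chainRoot Option.map; rewrite [Cfsg.Agent.LsF.f0da5a7_6.2, Cfsg.Agent.LsF.nsub_pat, Cfsg.Agent.LsF.instGetElem?_eq]; (try delta Option.getD.match_1); (try delta Option.casesOn); exact rfl) | exact rfl⟩
private noncomputable def _root_.Cfsg.Agent.LsF.f0da5a7_8 : {f // @Cfsg.Lie.ChevalleyDatum.chainM = f} := ⟨_, by first | (delta Cfsg.Lie.ChevalleyDatum.chainM Option.map; rewrite [Cfsg.Agent.LsF.f0da5a7_6.2, Cfsg.Agent.LsF.nsub_pat, Cfsg.Agent.LsF.instGetElem?_eq, Cfsg.Agent.LsF.ogetD_eq]; (try delta Option.getD.match_1); (try delta Option.casesOn); exact rfl) | exact rfl⟩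
private noncomputable def _root_.Cfsg.Agent.LsF.f0da5a7_9 : {f // @Cfsg.Lie.ChevalleyDatum.commTerms = f} := ⟨_, by first | (delta Cfsg.Lie.ChevalleyDatum.commTerms Option.bind Option.map; rewrite [Cfsg.Agent.LsF.f0da5a7_7.2, Cfsg.Agent.LsF.f0da5a7_8.2, Cfsg.Agent.LsF.imul_pat, Cfsg.Agent.LsF.ineg_pat, Cfsg.Agent.LsF.filterMap_eq, Cfsg.Agent.LsF.ogetD_eq]; (try delta Option.bind.match_1); (try delta Option.getD.match_1); (try delta Option.casesOn); exact rfl) | exact rfl⟩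
private noncomputable def _root_.Cfsg.Agent.LsF.f0da5a7_10 : {f // @Cfsg.Agent.H92.ExcSL2.OrthB = f} := ⟨_, by first | (delta Cfsg.Agent.H92.ExcSL2.OrthB; rewrite [Cfsg.Agent.LsF.f0da5a7_5.2, Cfsg.Agent.LsF.f0da5a7_9.2, Cfsg.Agent.LsF.and_eq, Cfsg.Agent.LsF.instDecEq_eq, Cfsg.Agent.LsF.isEmpty_eq, Cfsg.Agent.LsF.dNot_eq, Cfsg.Agent.LsF.decide_eq]; exact rfl) | exact rfl⟩
private noncomputable def _root_.Cfsg.Agent.LsF.f0da5a7_11 : {f // @Cfsg.Agent.H818.StrP.UTab.top = f} := ⟨_, by first | (delta Cfsg.Agent.H818.StrP.UTab.top; rewrite [Cfsg.Agent.LsF.nsub_pat]; exact rfl) | exact rfl⟩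
private noncomputable def _root_.Cfsg.Agent.LsF.f0da5a7_12 : {f // @Cfsg.Agent.H788.NB.orthChk = f} := ⟨_, by first | (delta Cfsg.Agent.H788.NB.orthChk; rewrite [Cfsg.Agent.LsF.f0da5a7_3.2, Cfsg.Agent.LsF.f0da5a7_4.2, Cfsg.Agent.LsF.f0da5a7_10.2, Cfsg.Agent.LsF.f0da5a7_11.2, Cfsg.Agent.LsF.and_eq, Cfsg.Agent.LsF.or_eq, Cfsg.Agent.LsF.all_eq, Cfsg.Agent.LsF.range_eq, Cfsg.Agent.LsF.instIDecEq_eq, Cfsg.Agent.LsF.dNot_eq, Cfsg.Agent.LsF.decide_eq]; exact rfl) | exact rfl⟩
theorem orth_E6 : orthChk chevE6 = true := by ((try (rewrite [Cfsg.Agent.LsF.f0da5a7_12.2])); decide +kernel)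
theorem orth_E7 : orthChk chevE7 = true := by ((try (rewrite [Cfsg.Agent.LsF.f0da5a7_12.2])); decide +kernel)
theorem orth_E8 : orthChk chevE8 = true := by ((try (rewrite [Cfsg.Agent.LsF.f0da5a7_12.2])); decide +kernel)

theorem orth_spec {D : ChevalleyDatum} (hH : HiList D) {s : ℕ} (hs : s < D.nroots) (h0 : _root_.Cfsg.Agent.ChevalleyStructure.RootVec.rt D s (node D) = 0) :
    OrthB D (top D) s = true ∧ OrthB D 0 s = true := by
  have h1 : orthChk D = true := by
    simp only [HiList, List.mem_cons, List.not_mem_nil, or_false] at hH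
    rcases hH with rfl | rfl | rfl | rfl | rfl | rfl
    · exact orth_G2
    · exact orth_D4
    · exact orth_F4
    · exact orth_E6
    · exact orth_E7
    · exact orth_E8
  unfold orthChk at h1
  rw [List.all_eq_true] at h1
  have h2 := h1 s (List.mem_range.2 hs)
  rw [Bool.or_eq_true, decide_eq_true_eq, Bool.and_eq_true] at h2
  rcases h2 with h2 | h2
  · exact absurd h0 h2
  · exact h2

section Top

variable {D : ChevalleyDatum} (hH : HiList D) {K : Type u} [Field K]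

/-- the `SL₂` of the highest root -/
noncomputable abbrev pt : SL2 K →* ↥(D.group K) := ph hH.inList (top_lt hH)

theorem pt_dg (c : Kˣ) : pt hH (SLTwo.dg c) = _root_.Cfsg.Agent.H818.StrP.UAct.ht hH (c : K) := by
  apply Subtype.ext
  rw [coe_ph, SLTwo.dg_eq, map_mul, phi_wel hH.inList (top_lt hH), phi_wel hH.inList (top_lt hH), ← hG_def]
  rfl

variable {l : ℕ} {M : CoxeterMatrix (Fin l)} (hp : IsType D l M) {W : Type*} [Group W] (cs : CoxeterSystem M W)

/-- the roots orthogonal to the highest root -/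
def Om (hp : IsType D l M) (cs : CoxeterSystem M W) (hH : HiList D) : Set (Fin l → ℤ) :=
  {b | IsRoot cs hp.isCartan b ∧ b (nd hH hp) = 0}

/-- `ψ (SL₂(K))` centralises `⟨X b : ⟨b, θ^∨⟩ = 0⟩`. -/
theorem pt_comm (g : SL2 K) :
    ∀ u ∈ RGD.Sup (XX D l K) (Om hp cs hH), pt hH g * u = u * pt hH g := by
  have h1 : RGD.Sup (XX D l K) (Om hp cs hH) ≤ Subgroup.centralizer ((pt (K := K) hH).range : Set ↥(D.group K)) := by
    refine RGD.Sup_le ?_
    rintro x ⟨hx, hx0⟩ u hu
    obtain ⟨s, hs, rfl⟩ := (isRoot_iff hp cs x).1 hx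
    obtain ⟨t, rfl⟩ := (mem_XX hH hp hs).1 hu
    rw [Subgroup.mem_centralizer_iff]
    rintro _ ⟨g, rfl⟩
    obtain ⟨o1, o2⟩ := orth_spec hH hs hx0
    refine (commute_of_up_lo (pt hH) (xg hH s t) (fun a => ?_) (fun a => ?_) g).eq
    · apply Subtype.ext
      rw [Subgroup.coe_mul, Subgroup.coe_mul, coe_ph, phi_up hH.inList (top_lt hH)]
      exact (xG_commute hH.inList (top_lt hH) hs o1 a t).eq
    · apply Subtype.ext
      rw [Subgroup.coe_mul, Subgroup.coe_mul, coe_ph, phi_lo hH.inList (top_lt hH), neg_top hH]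
      exact (xG_commute hH.inList (nroots_pos hH.checked) hs o2 a t).eq
  exact fun u hu => Subgroup.mem_centralizer_iff.1 (h1 hu) _ ⟨g, rfl⟩

/-- the centraliser of `h_θ(c)` -/
theorem ht_norm [Finite W] [Finite K] {c : K} (hc0 : c ≠ 0) (hc1 : c ≠ 1) (hc2 : c ^ 2 ≠ 1) {g : ↥(D.group K)}
    (hcomm : g * _root_.Cfsg.Agent.H818.StrP.UAct.ht hH c = _root_.Cfsg.Agent.H818.StrP.UAct.ht hH c * g) :
    ∀ u ∈ RGD.Sup (XX D l K) (Om hp cs hH), g * u * g⁻¹ ∈ RGD.Sup (XX D l K) (Om hp cs hH) := by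
  obtain ⟨p, hpr, hcp⟩ : ∃ p : ℕ, p.Prime ∧ CharP K p := by
    obtain ⟨p, hcp⟩ := CharP.exists K
    exact ⟨p, CharP.char_is_prime K p, hcp⟩
  have : Fact p.Prime := ⟨hpr⟩
  have hcm : ∀ m : ℤ, m ≠ 0 → -2 ≤ m → m ≤ 2 → c ^ m ≠ 1 := by
    intro m hm h3 h4
    have h5 : m = 1 ∨ m = -1 ∨ m = 2 ∨ m = -2 := by omega
    rcases h5 with rfl | rfl | rfl | rfl
    · rwa [zpow_one]
    · rw [zpow_neg, zpow_one]
      intro h6
      exact hc1 (inv_eq_one.1 h6)
    · exact_mod_cast hc2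
    · rw [zpow_neg]
      intro h6
      exact hc2 (by exact_mod_cast inv_eq_one.1 h6)
  refine conj_mem_sup (rgd (K := K) hp cs p) (S := {_root_.Cfsg.Agent.H818.StrP.UAct.ht hH c}) ?_ (fun x hx => hx.1) ?_ ?_ ?_ ?_
  · rintro _ rfl
    exact ht_mem hH hc0
  · rintro x ⟨hx, hx0⟩ z hz
    obtain ⟨s, hs, rfl⟩ := (isRoot_iff hp cs x).1 hx
    obtain ⟨t, rfl⟩ := (mem_XX hH hp hs).1 hz
    rw [Subgroup.mem_centralizer_singleton_iff]
    have h1 := ht_mul_xg hH hc0 hs t
    have h2 : _root_.Cfsg.Agent.ChevalleyStructure.RootVec.rt D s (node D) = 0 := hx0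
    rw [h2, zpow_zero, one_mul] at h1
    exact h1.symm
  · intro x hx hx0
    rw [eq_bot_iff]
    intro z hzz
    obtain ⟨hz, hz'⟩ := Subgroup.mem_inf.1 hzz
    obtain ⟨s, hs, rfl⟩ := (isRoot_iff hp cs x).1 hx
    obtain ⟨t, rfl⟩ := (mem_XX hH hp hs).1 hz
    rw [Subgroup.mem_centralizer_singleton_iff] at hz'
    have h1 := ht_mul_xg hH hc0 hs t
    rw [← hz'] at h1
    have h2 : xg hH s t = xg hH s (c ^ _root_.Cfsg.Agent.ChevalleyStructure.RootVec.rt D s (node D) * t) := mul_right_cancel h1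
    have h3 : t = c ^ _root_.Cfsg.Agent.ChevalleyStructure.RootVec.rt D s (node D) * t := xG_injective hH.inList hs (congrArg Subtype.val h2)
    have hm : _root_.Cfsg.Agent.ChevalleyStructure.RootVec.rt D s (node D) ≠ 0 := fun h3 => hx0 ⟨hx, h3⟩
    have h5 := hcm _ hm (le_rt hH hs) (rt_le hH hs)
    have h6 : t = 0 := by
      by_contra ht
      apply h5
      have h7 : (1 : K) * t = c ^ _root_.Cfsg.Agent.ChevalleyStructure.RootVec.rt D s (node D) * t := by rw [one_mul]; exact h3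
      exact (mul_right_cancel₀ ht h7).symm
    rw [h6, Subgroup.mem_bot]
    apply Subtype.ext
    exact xG_zero hH.inList s
  · rw [Cfsg.Agent.KFacts.RgdRigid.GG_eq_top (G1_eq_top hp cs)]
    exact Subgroup.mem_top _
  · rw [Subgroup.mem_centralizer_singleton_iff]
    exact hcomm

/-- **The centraliser of an element of odd prime order of the long root `SL₂`.** -/
theorem norm_of_comm [Finite W] [Finite K] {q : ℕ} (hq : q.Prime) (hq2 : q ≠ 2) {ζ : K}
    (hζ : IsPrimitiveRoot ζ q) {g : SL2 K} (hg : g ^ q = 1) (hg1 : g ≠ 1) {y : ↥(D.group K)}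
    (hy : y * pt hH g = pt hH g * y) :
    ∀ u ∈ RGD.Sup (XX D l K) (Om hp cs hH), y * u * y⁻¹ ∈ RGD.Sup (XX D l K) (Om hp cs hH) := by
  obtain ⟨k, c, hcq, hc1, hk⟩ := SLTwo.exists_conj hq hq2 hζ hg hg1
  have hc2 : c ^ 2 ≠ 1 := by
    intro h3
    obtain ⟨j, hj⟩ := hq.odd_of_ne_two hq2
    rw [hj, pow_succ, pow_mul, h3, one_pow, one_mul] at hcq
    exact hc1 hcq
  set ψ := pt (K := K) hH with hψ
  -- `y' = ψ k * y * (ψ k)⁻¹` commutes with `h_θ(c)`
  have h3 : ψ k * ψ g * (ψ k)⁻¹ = _root_.Cfsg.Agent.H818.StrP.UAct.ht hH (c : K) := by rw [← pt_dg, ← hk, map_mul, map_mul, map_inv]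
  have h4 : (ψ k * y * (ψ k)⁻¹) * _root_.Cfsg.Agent.H818.StrP.UAct.ht hH (c : K) = _root_.Cfsg.Agent.H818.StrP.UAct.ht hH (c : K) * (ψ k * y * (ψ k)⁻¹) := by
    rw [← h3]
    calc ψ k * y * (ψ k)⁻¹ * (ψ k * ψ g * (ψ k)⁻¹) = ψ k * (y * ψ g) * (ψ k)⁻¹ := by group
      _ = ψ k * (ψ g * y) * (ψ k)⁻¹ := by rw [hy]
      _ = _ := by group
  intro u hu
  have h5 := ht_norm hH hp cs c.ne_zero (fun h => hc1 (Units.ext h))
    (fun h => hc2 (Units.ext (by rw [Units.val_pow_eq_pow_val, h, Units.val_one]))) h4 u hu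
  have hku : (ψ k)⁻¹ * u * ψ k = u := by
    rw [mul_assoc, ← pt_comm hH hp cs k u hu, inv_mul_cancel_left]
  have h6 := pt_comm hH hp cs k _ h5
  have h7 : y * u * y⁻¹ = (ψ k)⁻¹ * (ψ k * y * (ψ k)⁻¹ * u * (ψ k * y * (ψ k)⁻¹)⁻¹) * ψ k := by
    calc y * u * y⁻¹ = y * ((ψ k)⁻¹ * u * ψ k) * y⁻¹ := by rw [hku]
      _ = _ := by group
  rw [h7, mul_assoc, ← h6, inv_mul_cancel_left]
  exact h5

end Top

/-! ### groups inside `D.group K` -/

/-- the coefficient at `k` -/
def ev {I : Type*} (k : I) : (I → ℤ) →+ ℤ := Pi.evalAddMonoidHom (fun _ => ℤ) k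

@[simp] theorem ev_apply {I : Type*} (k : I) (x : I → ℤ) : ev k x = x k := rfl

@[simp] theorem neg_ev_apply {I : Type*} (k : I) (x : I → ℤ) : (-ev k) x = -x k := rfl

section Over

variable {D : ChevalleyDatum} (hH : HiList D) {K : Type u} [Field K]
  {l : ℕ} {M : CoxeterMatrix (Fin l)} (hp : IsType D l M) {W : Type*} [Group W] (cs : CoxeterSystem M W)
variable {I' W' H : Type*} [Fintype I'] [DecidableEq I'] [Group W'] [Group H] {M' : CoxeterMatrix I'}
  {cs' : CoxeterSystem M' W'} {A' : I' → I' → ℤ} {h' : IsCartan M' A'} {p' : ℕ} {T' : Subgroup H} {n' : I' → H}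
  {X' : (I' → ℤ) → Subgroup H}

/-- **The centraliser in a subgroup** `H` of `D.group K` with compatible root group datum. -/
theorem norm_zero [Finite W] [Finite K] [Finite W'] (R' : RGD cs' h' p' T' n' X')
    (hG' : GG cs' h' T' X' = ⊤) {φ : H →* ↥(D.group K)} {k' : I'}
    (hc : Over.Comp cs hp.isCartan (TT D K) (XX D l K) cs' h' T' X' φ (ev (nd hH hp)) (ev k'))
    (hc' : Over.Comp cs hp.isCartan (TT D K) (XX D l K) cs' h' T' X' φ (-ev (nd hH hp)) (-ev k'))
    (hX : ∀ a, IsRoot cs' h' a → a k' = 0 → (X' a).map φ ≤ RGD.Sup (XX D l K) (Om hp cs hH))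
    {q : ℕ} (hq : q.Prime) (hq2 : q ≠ 2) {ζ : K} (hζ : IsPrimitiveRoot ζ q)
    {g : SL2 K} (hg : g ^ q = 1) (hg1 : g ≠ 1) {x : H} (hx : φ x = pt hH g) {y : H} (hy : y * x = x * y) :
    ∀ u ∈ RGD.Sup X' {a | IsRoot cs' h' a ∧ a k' = 0}, y * u * y⁻¹ ∈
      RGD.Sup X' {a | IsRoot cs' h' a ∧ a k' = 0} := by
  obtain ⟨p, hpr, hcp⟩ : ∃ p : ℕ, p.Prime ∧ CharP K p := by
    obtain ⟨p, hcp⟩ := CharP.exists K
    exact ⟨p, CharP.char_is_prime K p, hcp⟩
  have : Fact p.Prime := ⟨hpr⟩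
  have h1 : φ y * pt hH g = pt hH g * φ y := by rw [← hx, ← map_mul, ← map_mul, hy]
  have h3 := norm_of_comm hH hp cs hq hq2 hζ hg hg1 h1
  refine Over.conj_mem (rgd (K := K) hp cs p) R' hc hc' (fun i => ?_) hG'
    (K := RGD.Sup (XX D l K) (Om hp cs hH)) ?_ ?_ hX h3
  · rw [ev_apply]
    exact sr_nonneg i k'
  · exact RGD.Sup_le fun b hb => X_le_PS ⟨hb.1, by rw [ev_apply, hb.2]⟩
  · exact RGD.Sup_le fun b hb => X_le_PS ⟨hb.1, by rw [neg_ev_apply, hb.2, _root_.neg_zero]⟩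

end Over

end Cfsg.Agent.H788.NB
end

-- part: H788/NB/Fold
section
/-!
# Twisted groups inside Chevalley groups over a larger field (helper788)

* `toK ι : G →* D.group K'`, `ι : K →+* K'`, `G` a twisted group in `D.group K`;
* `comp` : compatibility with the functionals;
* `norm_fold` : `x ∈ G` equal to `φ_θ(g)`, `g ∈ SL₂(K)` of odd prime order `q ≠ char K`; then `x` centralises
  `⟨X a : a_{k'} = 0⟩` and `C_G(x)` normalises it.
-/

set_option autoImplicit false
set_option linter.unusedSectionVars false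

namespace Cfsg.Agent.H788.NB

open CoxeterSystem Cfsg Cfsg.Lie Cfsg.Agent.ChevalleyStructure Cfsg.Agent.ChevalleyStructure.Elts
  Cfsg.Agent.ChevalleyStructure.TwistedU
  Cfsg.Agent.ChevalleyStructure.CoxeterGeom Cfsg.Agent.Tits.Roots Cfsg.Agent.Tits.Core
  Cfsg.Agent.Tits.RootComb Cfsg.Agent.Nodes.Comb Cfsg.Agent.Nodes.Coroot
open Cfsg.Agent.Nodes.Reps Cfsg.Agent.Nodes.BNOf Cfsg.Agent.Nodes.Bruhat Cfsg.Agent.KFacts.RgdPar
  Cfsg.Agent.Nodes Cfsg.Agent.Nodes.RGDChev Cfsg.Agent.KFacts.RgdChevCoord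
  Cfsg.Agent.Nodes.RGDTwGen Cfsg.Agent.Nodes.RGDFold
open Cfsg.Agent.ChevalleyStructure.SL2Hom Cfsg.Agent.ChevalleyStructure.RootVec
open Cfsg.Agent.H92.ExcSL2 Cfsg.Agent.H818.StrP.UTab Cfsg.Agent.H818.StrP.UAct
open Cfsg.Agent.GpExc

universe u v

/-! ### elements of `SL₂(F)` -/

theorem exists_order {F : Type*} [Field F] [Fintype F] {p : ℕ} (hp : p.Prime) (hd : p ∣ Fintype.card F ^ 2 - 1) :
    ∃ g : Matrix.SpecialLinearGroup (Fin 2) F, orderOf g = p := by
  have : Fact p.Prime := ⟨hp⟩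
  have h1 : p ∣ Nat.card (Matrix.SpecialLinearGroup (Fin 2) F) := by
    rw [Cfsg.Agent.S0276.card_sl_two (F := F) rfl]
    exact hd.mul_left _
  exact exists_prime_orderOf_dvd_card' p h1

section Ext

/-- a finite extension with a primitive `q`-th root of unity -/
theorem exists_ext (K : Type) [Field K] [Finite K] {q : ℕ} (hq : q.Prime) (hqK : (q : K) ≠ 0) :
    ∃ (K' : Type) (_ : Field K') (_ : Finite K') (_ : K →+* K') (ζ : K'), IsPrimitiveRoot ζ q := by
  have : NeZero q := ⟨hq.ne_zero⟩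
  have : NeZero (q : K) := ⟨hqK⟩
  have h1 : FiniteDimensional K (CyclotomicField q K) := IsCyclotomicExtension.finiteDimensional {q} K _
  have h2 : Finite (CyclotomicField q K) := Module.finite_of_finite K
  exact ⟨CyclotomicField q K, inferInstance, h2, algebraMap K _, _, IsCyclotomicExtension.zeta_spec q K _⟩

end Ext

section Fold

variable {D : ChevalleyDatum} {l : ℕ} {M' : CoxeterMatrix (Fin l)} {hp : IsType D l M'} {K : Type} [Field K]
  {m : ℕ} {M : CoxeterMatrix (Fin m)} {A : Fin m → Fin m → ℤ}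
  {J : Fin m → List (Fin l)} {L : List (List ℕ)} {σ : GL D.Idx K →* GL D.Idx K} {ρ ρ' : ℕ → ℕ}
    {f : ℕ → K → K} {G : Subgroup (GL D.Idx K)}
  (FG : FoldGrp hp K J L σ ρ ρ' f G)

include FG in
theorem G_le_group : G ≤ D.group K := by
  have h1 : ∀ z, R D hp K J σ z ≤ D.group K := by
    intro z
    refine le_trans inf_le_left (rspan_le _ fun r _ t => xG_mem_group hp.inList r t)
  exact FG.gen.trans (iSup_le fun i => sup_le (h1 _) (h1 _))

variable {K' : Type} [Field K'] (ι : K →+* K')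

/-- the inclusion -/
noncomputable def toK : ↥G →* ↥(D.group K') :=
  (Field.emb hp.inList ι).comp (Subgroup.inclusion (G_le_group FG))

theorem coe_toK (g : ↥G) : ((toK FG ι g : ↥(D.group K')) : GL D.Idx K') = Field.glMap D ι (g : GL D.Idx K) := rfl

theorem toK_injective : Function.Injective (toK FG ι) :=
  (Field.emb_injective hp.inList ι).comp (Subgroup.inclusion_injective _)

theorem X_le {z : Fin m → ℤ} {H : Subgroup ↥(D.group K')}
    (hH : ∀ k < D.nroots, V D J k = z → XX D l K' (vec D l k) ≤ H) :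
    ((R D hp K J σ z).subgroupOf G).map (toK FG ι) ≤ H := by
  rintro _ ⟨g, hg, rfl⟩
  have h1 : rspan (xG (F := K) hp.inList) {k | k < D.nroots ∧ V D J k = z} ≤
      (H.map (D.group K').subtype).comap (Field.glMap D ι) := by
    refine rspan_le _ fun k hk t => ?_
    rw [Subgroup.mem_comap, Field.glMap_xG]
    refine ⟨⟨xG hp.inList k (ι t), xG_mem_group hp.inList k _⟩, hH k hk.1 hk.2 ?_, rfl⟩
    rw [Subgroup.mem_subgroupOf, XV_vec hp K' hk.1]
    exact xG_mem_rootSubgroup hp.inList k _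
  have h2 : (g : GL D.Idx K) ∈ rspan (xG (F := K) hp.inList) {k | k < D.nroots ∧ V D J k = z} := by
    have h3 : (g : GL D.Idx K) ∈ R D hp K J σ z := Subgroup.mem_subgroupOf.1 hg
    exact h3.1
  obtain ⟨g', hg', e⟩ := h1 h2
  have h3 : g' = toK FG ι g := Subtype.ext e
  rw [← h3]
  exact hg'

variable {W W' : Type*} [Group W] [Group W'] (cs' : CoxeterSystem M' W') (cs : CoxeterSystem M W) (h : IsCartan M A)

/-- **The compatibility of the root group data of `G` and `D.group K'`.** -/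
theorem comp (fn : (Fin l → ℤ) →+ ℤ) (fn' : (Fin m → ℤ) →+ ℤ)
    (hf : ∀ k < D.nroots, fn (vec D l k) = fn' (V D J k)) :
    Over.Comp cs' hp.isCartan (TT D K') (XX D l K') cs h ((D.diagonalSubgroup K ⊓ G).subgroupOf G)
      (fun z => (R D hp K J σ z).subgroupOf G) (toK FG ι) fn fn' where
  inj := toK_injective FG ι
  tor := by
    refine le_trans ?_ T_le_PS
    rintro _ ⟨g, hg, rfl⟩
    have h1 : (g : GL D.Idx K) ∈ D.diagonalSubgroup K := (Subgroup.mem_subgroupOf.1 hg).1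
    rw [Subgroup.mem_subgroupOf, coe_toK]
    exact Field.glMap_diagonal hp ι h1
  nonneg _ _ h0 := X_le FG ι fun k hk hV => X_le_PS (X := XX D l K')
    ⟨isRoot_vec hp cs' hk, by rw [hf k hk, hV]; exact h0⟩
  neg _ _ h0 := X_le FG ι fun k hk hV => RGD.le_Sup (X := XX D l K')
    (show vec D l k ∈ {x | IsRoot cs' hp.isCartan x ∧ fn x < 0} from
      ⟨isRoot_vec hp cs' hk, by rw [hf k hk, hV]; exact h0⟩)

include FG in
/-- **Centralisers of the elements of odd prime order in the long root `SL₂`.** -/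
theorem norm_fold [Finite K] (hH : HiList D) (FD : FoldData D M A J L) {k' : Fin m}
    (hV : ∀ r < D.nroots, V D J r k' = _root_.Cfsg.Agent.ChevalleyStructure.RootVec.rt D r (node D)) {q : ℕ} (hq : q.Prime) (hq2 : q ≠ 2)
    (hqK : (q : K) ≠ 0) {g : SL2 K} (hg : g ^ q = 1) (hg1 : g ≠ 1) {x : ↥G}
    (hx : (x : GL D.Idx K) = phi (SL2All.good_of_mem D hp.inList (top D) (top_lt hH)) K g) :
    (∀ u ∈ RGD.Sup (fun z => (R D hp K J σ z).subgroupOf G) {a | IsRoot cs h a ∧ a k' = 0}, x * u = u * x) ∧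
    ∀ y : ↥G, y * x = x * y → ∀ u ∈ RGD.Sup (fun z => (R D hp K J σ z).subgroupOf G) {a | IsRoot cs h a ∧ a k' = 0},
      y * u * y⁻¹ ∈ RGD.Sup (fun z => (R D hp K J σ z).subgroupOf G) {a | IsRoot cs h a ∧ a k' = 0} := by
  obtain ⟨p, hpr, hcp⟩ : ∃ p : ℕ, p.Prime ∧ CharP K p := by
    obtain ⟨p, hcp⟩ := CharP.exists K
    exact ⟨p, CharP.char_is_prime K p, hcp⟩
  have : Fact p.Prime := ⟨hpr⟩
  let cs' : CoxeterSystem M' M'.Group := M'.toCoxeterSystem
  have : Finite M'.Group := RGDChev.finite_W hp cs'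
  have : Finite W := Cfsg.Agent.Nodes.RGDFold.finite_W (hp := hp) cs h FD
  have R' := Cfsg.Agent.Nodes.RGDFold.rgd cs h FD FG p
  have hGG := Cfsg.Agent.KFacts.RgdRigid.GG_eq_top (cs := cs) (h := h) (T := (D.diagonalSubgroup K ⊓ G).subgroupOf G)
    (X := fun z => (Cfsg.Agent.Nodes.RGDFold.R D hp K J σ z).subgroupOf G)
    (Cfsg.Agent.Nodes.RGDFold.G1_eq_top cs h FD FG p)
  obtain ⟨K', _, _, ι, ζ, hζ⟩ := exists_ext K hq hqK
  -- the image of `x`
  set g' : SL2 K' := Matrix.SpecialLinearGroup.map ι g with hg'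
  have hinj := Rank.map_injective (F := K) (K := K') ι
  have hg'q : g' ^ q = 1 := by rw [hg', ← map_pow, hg, map_one]
  have hg'1 : g' ≠ 1 := fun h1 => hg1 (hinj (by rw [map_one]; exact h1))
  have hphi : ∀ g : SL2 K, Field.glMap D ι (phi (SL2All.good_of_mem D hp.inList (top D) (top_lt hH)) K g) =
      phi (SL2All.good_of_mem D hp.inList (top D) (top_lt hH)) K' (Matrix.SpecialLinearGroup.map ι g) := by
    intro g
    have h1 : Subgroup.closure (Set.range (up (F := K)) ∪ Set.range (lo (F := K))) ≤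
        MonoidHom.eqLocus ((Field.glMap D ι).comp (phi (SL2All.good_of_mem D hp.inList (top D) (top_lt hH)) K))
          ((phi (SL2All.good_of_mem D hp.inList (top D) (top_lt hH)) K').comp
            (Matrix.SpecialLinearGroup.map ι)) := by
      rw [Subgroup.closure_le]
      rintro _ (⟨t, rfl⟩ | ⟨t, rfl⟩)
      · show Field.glMap D ι (phi (SL2All.good_of_mem D hp.inList (top D) (top_lt hH)) K (up t)) =
          phi (SL2All.good_of_mem D hp.inList (top D) (top_lt hH)) K' (Matrix.SpecialLinearGroup.map ι (up t))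
        rw [Rank.map_up, phi_up hp.inList (top_lt hH), phi_up hp.inList (top_lt hH), Field.glMap_xG]
      · show Field.glMap D ι (phi (SL2All.good_of_mem D hp.inList (top D) (top_lt hH)) K (lo t)) =
          phi (SL2All.good_of_mem D hp.inList (top D) (top_lt hH)) K' (Matrix.SpecialLinearGroup.map ι (lo t))
        rw [Rank.map_lo, phi_lo hp.inList (top_lt hH), phi_lo hp.inList (top_lt hH), Field.glMap_xG]
    exact h1 (mem_closure_SL2 g)
  have hxφ : toK FG ι x = pt hH g' := by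
    apply Subtype.ext
    rw [coe_toK, hx, hphi]
    rfl
  have hVev : ∀ k < D.nroots, ev (nd hH hp) (vec D l k) = ev k' (V D J k) := by
    intro k hk
    rw [ev_apply, ev_apply, hV k hk]
    rfl
  have hX : ∀ a, IsRoot cs h a → a k' = 0 →
      ((R D hp K J σ a).subgroupOf G).map (toK FG ι) ≤ RGD.Sup (XX D l K') (Om hp cs' hH) := by
    intro a _ h3
    refine X_le FG ι fun k hk hVk => RGD.le_Sup (X := XX D l K') ?_
    refine ⟨isRoot_vec hp cs' hk, ?_⟩
    have h4 := hVev k hk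
    rw [ev_apply, ev_apply, hVk, h3] at h4
    exact h4
  constructor
  · intro u hu
    have h1 : RGD.Sup (fun z => (R D hp K J σ z).subgroupOf G) {a | IsRoot cs h a ∧ a k' = 0} ≤
        (RGD.Sup (XX D l K') (Om hp cs' hH)).comap (toK FG ι) := by
      refine RGD.Sup_le fun a ha => ?_
      exact Subgroup.map_le_iff_le_comap.1 (hX a ha.1 ha.2)
    have h2 := pt_comm hH hp cs' g' _ (h1 hu)
    apply toK_injective FG ι
    rw [map_mul, map_mul, hxφ]
    exact h2
  · intro y hy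
    exact norm_zero hH hp cs' R' hGG (comp FG ι cs' cs h _ _ hVev)
      (comp FG ι cs' cs h _ _ fun k hk => congrArg Neg.neg (hVev k hk)) hX hq hq2 hζ hg'q hg'1 hxφ hy

end Fold

end Cfsg.Agent.H788.NB
end
end

-- part: H788/NB/Gen
section
set_option linter.all false
open scoped Cfsg.Agent.FastGrp

/-!
# More than one `p`-block from a component of the centraliser of an element of order `p` (helper788)
-/

set_option autoImplicit false

namespace Cfsg.Agent.H788.NB

open Cfsg Cfsg.Agent.H7.NBp Cfsg.Agent.H718.NBIH Subgroup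

theorem not_comm_of_perfect {G : Type*} [Group G] [Nontrivial G] (h : commutator G = ⊤) :
    ¬ IsMulCommutative G := by
  intro hc
  have h1 : commutator G = ⊥ := by
    rw [commutator_def, Subgroup.commutator_eq_bot_iff_le_centralizer]
    intro a _
    rw [Subgroup.mem_centralizer_iff]
    intro b _
    exact hc.is_comm.comm b a
  rw [h1] at h
  exact bot_ne_top h

theorem perfect_of_surjective {G H : Type*} [Group G] [Group H] (h : commutator G = ⊤) (f : G →* H)
    (hf : Function.Surjective f) : commutator H = ⊤ := by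
  have h1 := congrArg (Subgroup.map f) h
  rw [commutator_def, Subgroup.map_commutator, ← MonoidHom.range_eq_map, MonoidHom.range_eq_top.2 hf] at h1
  exact h1

/-- **The criterion.** -/
theorem nb_of_cent {p : ℕ} [hp : Fact p.Prime] {G : Type*} [Group G] [Finite G] [IsSimpleGroup G]
    (ih : IH p (Nat.card G)) {x : G} (hx : orderOf x = p) {K : Subgroup G}
    (hc : ∀ u ∈ K, x * u = u * x) (hn : ∀ y : G, y * x = x * y → ∀ u ∈ K, y * u * y⁻¹ ∈ K)
    {S : Type*} [Group S] [Finite S] [IsSimpleGroup S] (hS : ¬ IsMulCommutative S) (f : K →* S)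
    (hf : Function.Surjective f) (hker : f.ker ≤ center K) : NB p G := by
  have hna : ¬ IsMulCommutative G := by
    intro h
    apply hS
    refine ⟨⟨fun a b => ?_⟩⟩
    obtain ⟨a, rfl⟩ := hf a
    obtain ⟨b, rfl⟩ := hf b
    rw [← map_mul, ← map_mul]
    congr 1
    exact Subtype.ext (h.is_comm.comm _ _)
  have hK : K ≠ ⊤ := by
    intro hK
    have h1 : x ∈ center G := by
      rw [Subgroup.mem_center_iff]
      intro u
      exact (hc u (by rw [hK]; exact Subgroup.mem_top _)).symm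
    rcases (inferInstance : (center G).Normal).eq_bot_or_eq_top with h2 | h2
    · rw [h2, Subgroup.mem_bot] at h1
      rw [h1, orderOf_one] at hx
      exact hp.out.one_lt.ne hx
    · apply hna
      refine ⟨⟨fun a b => ?_⟩⟩
      have h3 : a ∈ center G := by rw [h2]; exact Subgroup.mem_top _
      exact (Subgroup.mem_center_iff.1 h3 b).symm
  have hcard : Nat.card S < Nat.card G := by
    refine lt_of_le_of_lt (Nat.card_le_card_of_surjective f hf) ?_
    refine lt_of_le_of_ne (Subgroup.card_le_card_group K) fun h => hK ?_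
    exact Subgroup.eq_top_of_card_eq K h
  have hcent : ∀ y : G, y ∈ centralizer ((zpowers x : Subgroup G) : Set G) ↔ y * x = x * y := by
    intro y
    constructor
    · intro h
      exact (Subgroup.mem_centralizer_iff.1 h x (mem_zpowers x)).symm
    · intro h
      rw [Subgroup.mem_centralizer_iff]
      rintro _ ⟨k, rfl⟩
      exact ((show Commute y x from h).zpow_right k).eq.symm
  refine NB.of_cover (zpowers x) ?_ K ?_ ?_ f hf hker (ih.use hS hcard)
  · intro g
    refine ⟨1, ?_⟩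
    rw [pow_one]
    apply Subtype.ext
    obtain ⟨k, hk⟩ := g.2
    have h1 : (g : G) ^ p = 1 := by
      have hk' : x ^ k = (g : G) := hk
      rw [← hk', ← zpow_natCast, ← zpow_mul, mul_comm, zpow_mul, zpow_natCast]
      rw [← hx, pow_orderOf_eq_one, one_zpow]
    exact h1
  · intro u hu
    rw [hcent]
    exact (hc u hu).symm
  · intro c hcc u hu
    exact hn c ((hcent c).1 hcc) u hu

end Cfsg.Agent.H788.NB
end
end
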